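import Cfsg.Agent.Lib.Helper50.RO.Base

set_option autoImplicit false

namespace Cfsg.Agent.Lib.Helper50.RO

open Cfsg Cfsg.Agent.Lib Cfsg.Agent.Lib.Helper15
open scoped ComplexConjugate

/-- [A] Case A: a normal subgroup of odd order is in the kernel of every odd-degree irreducible
character (`Helper15.ker_of_not_dvd` with `R = ι.range`; `C_M(P) ≤ N_G(P) ⊓ M = P ⊓ M = 1`). -/
theorem caseA_ker {Q G : Type*} [Group Q] [Group G] [Finite G] (M : Subgroup G) [M.Normal]
    (hodd : Odd (Nat.card M)) (ι : Q →* G) (hSN : SN ι) {χ : G → ℂ} (hχ : IsIrrCharacter G χ)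
    (hd : Odd (charDegree χ)) : ∀ m ∈ M, χ m = χ 1 := by
  obtain ⟨⟨P, hP⟩, hN⟩ := hSN
  have hR : IsPGroup 2 ι.range := hP ▸ P.2
  obtain ⟨k, hk⟩ := (IsPGroup.iff_card).1 hR
  have hcop : (Nat.card M).Coprime (Nat.card ι.range) := by
    rw [hk]
    exact Nat.Coprime.pow_right k (Nat.coprime_two_right.2 hodd)
  have hC : M ⊓ Subgroup.centralizer (ι.range : Set G) = ⊥ := by
    rw [eq_bot_iff]
    intro x hx
    have h1 : x ∈ ι.range := by
      rw [← hN]
      exact Subgroup.centralizer_le_normalizer _ hx.2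
    have h2 : x ∈ M ⊓ ι.range := ⟨hx.1, h1⟩
    rw [(Subgroup.disjoint_of_coprime_natCard hcop).eq_bot] at h2
    exact h2
  exact ker_of_not_dvd 2 M ι.range hR hcop hC ⟨χ, hχ⟩ (fun h => (Nat.not_even_iff_odd.2 hd)
    (even_iff_two_dvd.2 h))

/-- [B0] a normal 2-subgroup lies in the image of `ι`. -/
theorem le_range_of_SN {Q G : Type*} [Group Q] [Group G] [Finite G] (M : Subgroup G) [hM' : M.Normal]
    (hM : IsPGroup 2 M) (ι : Q →* G) (hSN : SN ι) : M ≤ ι.range := by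
  obtain ⟨⟨P, hP⟩, -⟩ := hSN
  rw [← hP]
  exact normal_pSubgroup_le_sylow 2 M hM' hM P

end Cfsg.Agent.Lib.Helper50.RO
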