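import Cfsg.Agent.Lib.Helper50.RO.Base

set_option autoImplicit false

namespace Cfsg.Agent.Lib.Helper50.RO

open Cfsg Cfsg.Agent.Lib Cfsg.Agent.Lib.Helper15
open scoped ComplexConjugate

/-- sum of an inflated function. -/
theorem D2_sum_comp {Q P : Type*} [Group Q] [Fintype Q] [Group P] [Fintype P]
    (f : Q →* P) (hf : Function.Surjective f) (F : P → ℂ) :
    ∑ q : Q, F (f q) = (Nat.card f.ker : ℂ) * ∑ p : P, F p := by
  classical
  rw [← Finset.sum_fiberwise (s := Finset.univ) (g := fun q => f q) (f := fun q => F (f q)),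
    Finset.mul_sum]
  refine Finset.sum_congr rfl fun p _ => ?_
  have h1 : ∀ q ∈ Finset.univ.filter (fun q : Q => f q = p), F (f q) = F p := by
    intro q hq
    rw [(Finset.mem_filter.1 hq).2]
  rw [Finset.sum_congr rfl h1, Finset.sum_const, nsmul_eq_mul]
  congr 1
  have h2 := MonoidHom.card_fiber_eq_of_mem_range f (x := p) (y := 1) (hf p) ⟨1, map_one f⟩
  rw [h2]
  congr 1
  rw [Nat.card_eq_fintype_card, Fintype.card_subtype]
  congr 1
  ext x
  simp [MonoidHom.mem_ker]

/-- [D2] inner products of inflated functions. -/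
theorem classInner_comp_surj {Q P : Type*} [Group Q] [Fintype Q] [Group P] [Fintype P]
    (f : Q →* P) (hf : Function.Surjective f) (α β : P → ℂ) :
    classInner (α ∘ f) (β ∘ f) = classInner α β := by
  have h1 : Nat.card Q = Nat.card P * Nat.card f.ker := by
    rw [← Subgroup.index_mul_card f.ker, Subgroup.index_ker,
      MonoidHom.range_eq_top.2 hf, Subgroup.card_top]
  have hk : (Nat.card f.ker : ℂ) ≠ 0 := by
    exact_mod_cast Nat.card_pos.ne'
  have hp : (Nat.card P : ℂ) ≠ 0 := by
    exact_mod_cast Nat.card_pos.ne'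
  unfold classInner
  have h2 := D2_sum_comp f hf (fun p => α p * conj (β p))
  simp only [Function.comp_apply]
  rw [h2, h1]
  push_cast
  field_simp

end Cfsg.Agent.Lib.Helper50.RO
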