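import Cfsg.Agent.Lib.Helper50.RO.Base
import Cfsg.Agent.Lib.Helper50.RO.D2

set_option autoImplicit false

namespace Cfsg.Agent.Lib.Helper50.RO

open Cfsg Cfsg.Agent.Lib Cfsg.Agent.Lib.Helper15
open scoped ComplexConjugate

/-- [D] an irreducible constituent of an inflated character is inflated. -/
theorem descend {Q P : Type*} [Group Q] [Fintype Q] [Group P] [Fintype P]
    (f : Q →* P) (hf : Function.Surjective f) {α : P → ℂ} (hα : IsCharacter P α)
    {μ : Q → ℂ} (hμ : IsIrrCharacter Q μ) (h : classInner (α ∘ f) μ ≠ 0) :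
    ∃ ν : P → ℂ, IsIrrCharacter P ν ∧ μ = ν ∘ f ∧ classInner α ν ≠ 0 := by
  classical
  have := Fintype.ofFinite (IrrCharacter P)
  have hexp := cf_expansion (char_cf hα)
  have h1 : α ∘ f = ∑ χ : IrrCharacter P, classInner α χ • ((χ : P → ℂ) ∘ f) := by
    funext q
    have := congrFun hexp (f q)
    simp only [Function.comp_apply, Finset.sum_apply, Pi.smul_apply] at this ⊢
    exact this
  rw [h1, classInner_sum_left] at h
  obtain ⟨χ, -, hχ⟩ := Finset.exists_ne_zero_of_sum_ne_zero h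
  rw [classInner_smul_left] at hχ
  have h2 : classInner α χ ≠ 0 := left_ne_zero_of_mul hχ
  have h3 : classInner ((χ : P → ℂ) ∘ f) μ ≠ 0 := right_ne_zero_of_mul hχ
  refine ⟨χ, χ.2, ?_, h2⟩
  exact (irr_eq_of_inner_ne_zero (Helper80.isIrrCharacter_comp f hf χ.2) hμ h3).symm

end Cfsg.Agent.Lib.Helper50.RO
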