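import Cfsg.Agent.Lib.Helper50.RO.Base
import Cfsg.Agent.Lib.Helper50.RO.D

set_option autoImplicit false

namespace Cfsg.Agent.Lib.Helper50.RO

open Cfsg Cfsg.Agent.Lib Cfsg.Agent.Lib.Helper15
open scoped ComplexConjugate

/-- [B1a] existence of the linear character of `P = ι.range` and of `M` under `μ`. -/
theorem exists_und {Q G : Type*} [Group Q] [Fintype Q] [Group G] [Finite G]
    (ι : Q →* G) {χ : G → ℂ} (hχ : IsCharacter G χ) {μ : Q → ℂ} (h : LC ι χ μ) :
    ∃ ν : ι.range → ℂ, IsCharacter ι.range ν ∧ ν 1 = 1 ∧ (∀ q : Q, ν ⟨ι q, ⟨q, rfl⟩⟩ = μ q) ∧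
      ∀ (M : Subgroup G) (hM : M ≤ ι.range), Und ι M μ (resFun hM ν) := by
  classical
  have := Fintype.ofFinite ι.range
  obtain ⟨hμc, hμ1, hne⟩ := h
  have hμirr : IsIrrCharacter Q μ := irr_of_linear hμc hμ1
  have hα : IsCharacter ι.range (fun x : ι.range => χ x) := char_restrict hχ ι.range
  have hcomp : (fun x : ι.range => χ x) ∘ ι.rangeRestrict = χ ∘ ι := by
    funext q
    rfl
  obtain ⟨ν, hν, hμν, -⟩ := descend ι.rangeRestrict ι.rangeRestrict_surjective hα hμirr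
    (by rw [hcomp]; exact hne)
  have hval : ∀ q : Q, ν ⟨ι q, ⟨q, rfl⟩⟩ = μ q := by
    intro q
    rw [hμν]
    rfl
  have hν1 : ν 1 = 1 := by
    have := hval 1
    rw [hμ1] at this
    rw [← this]
    congr 1
    ext
    simp
  refine ⟨ν, irr_char hν, hν1, hval, fun M hM => ⟨char_resFun hM (irr_char hν), ?_, ?_⟩⟩
  · rw [resFun_apply]
    exact hν1
  · intro q hq
    rw [resFun_apply]
    exact hval q

end Cfsg.Agent.Lib.Helper50.RO
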