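import Cfsg.Agent.Lib.Helper50.RO.Base

set_option autoImplicit false

namespace Cfsg.Agent.Lib.Helper50.RO

open Cfsg Cfsg.Agent.Lib Cfsg.Agent.Lib.Helper15
open scoped ComplexConjugate

/-- [B1b] the character under `μ` is invariant under the image of `ι`. -/
theorem und_inv {Q G : Type*} [Group Q] [Group G] (M : Subgroup G) [M.Normal]
    (ι : Q →* G) (hM : M ≤ ι.range) {μ : Q → ℂ} (hμ : IsCharacter Q μ) {lam : M → ℂ}
    (hu : Und ι M μ lam) : ∀ q : Q, cj M (ι q) lam = lam := by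
  intro q
  funext m
  obtain ⟨m, hm⟩ := m
  obtain ⟨q', rfl⟩ := hM hm
  rw [cj_apply]
  have h1 : ι (q * q' * q⁻¹) ∈ M := by
    rw [map_mul, map_mul, map_inv]
    exact ‹M.Normal›.conj_mem _ hm _
  have h2 := hu.2.2 (q * q' * q⁻¹) h1
  have h3 := hu.2.2 q' hm
  rw [h3, ← char_cf hμ q' q, ← h2]
  congr 1
  ext
  simp

/-- [B1d] uniqueness of the character under `μ`. -/
theorem und_unique {Q G : Type*} [Group Q] [Group G] (M : Subgroup G)
    (ι : Q →* G) (hM : M ≤ ι.range) {μ : Q → ℂ} {lam lam' : M → ℂ}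
    (hu : Und ι M μ lam) (hu' : Und ι M μ lam') : lam = lam' := by
  funext m
  obtain ⟨m, hm⟩ := m
  obtain ⟨q', rfl⟩ := hM hm
  rw [hu.2.2 q' hm, hu'.2.2 q' hm]

end Cfsg.Agent.Lib.Helper50.RO
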