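import Cfsg.Agent.Lib.Helper50.RO.Base
import Cfsg.Agent.Lib.Helper50.RO.D2

set_option autoImplicit false

namespace Cfsg.Agent.Lib.Helper50.RO

open Cfsg Cfsg.Agent.Lib Cfsg.Agent.Lib.Helper15
open scoped ComplexConjugate

/-- [B1c] if `μ` is a constituent of `α ∘ ι` then the character under `μ` is a constituent
of `α` restricted to `M`. -/
theorem inner_und_ne_zero {Q G : Type*} [Group Q] [Fintype Q] [Group G] (M : Subgroup G)
    [Fintype M] (ι : Q →* G) (hM : M ≤ ι.range) {α : G → ℂ} (hα : IsCharacter G α) {μ : Q → ℂ}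
    (h : LC ι α μ) {lam : M → ℂ} (hu : Und ι M μ lam) :
    classInner (fun m : M => α m) lam ≠ 0 := by
  classical
  obtain ⟨hμc, hμ1, hne⟩ := h
  have hμirr : IsIrrCharacter Q μ := irr_of_linear hμc hμ1
  have hαι : IsCharacter Q (α ∘ ι) := Helper3.IsCharacter.comp_hom hα ι
  have := Fintype.ofFinite (M.comap ι)
  have hβ : IsCharacter (M.comap ι) (fun r : M.comap ι => μ r) := char_restrict hμc _
  have hβirr : IsIrrCharacter (M.comap ι) (fun r : M.comap ι => μ r) :=
    irr_of_linear hβ (by simpa using hμ1)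
  have h1 : classInner (resLin (M.comap ι) (α ∘ ι)) (fun r : M.comap ι => μ r) ≠ 0 := by
    refine inner_ne_zero_of_constituent (resLin (M.comap ι))
      (fun γ hγ => char_restrict hγ _) hαι hμirr hne hβ ?_
    rw [resLin_apply, irr_inner_self hβirr]
    exact one_ne_zero
  have hsurj : Function.Surjective (ι.subgroupComap M) := by
    rintro ⟨m, hm⟩
    obtain ⟨q, rfl⟩ := hM hm
    exact ⟨⟨q, hm⟩, rfl⟩
  have h2 : resLin (M.comap ι) (α ∘ ι) = (fun m : M => α m) ∘ (ι.subgroupComap M) := by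
    funext r
    rfl
  have h3 : (fun r : M.comap ι => μ r) = lam ∘ (ι.subgroupComap M) := by
    funext r
    exact (hu.2.2 r.1 r.2).symm
  rw [h2, h3, classInner_comp_surj _ hsurj] at h1
  exact h1

end Cfsg.Agent.Lib.Helper50.RO
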