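import Cfsg.Agent.Lib.Helper50.RO.Base
import Cfsg.Agent.Lib.Helper69.SubgroupSylow

set_option autoImplicit false

namespace Cfsg.Agent.Lib.Helper50.RO

open Cfsg Cfsg.Agent.Lib Cfsg.Agent.Lib.Helper15
open scoped ComplexConjugate

/-- [B2] two `P`-invariant constituents of `χ_M` are equal (Clifford + Sylow fusion + `N(P)=P`). -/
theorem inv_unique {Q G : Type*} [Group Q] [Group G] [Fintype G] (M : Subgroup G) [M.Normal]
    [Fintype M] (ι : Q →* G) (hSN : SN ι) {χ : G → ℂ} (hχ : IsIrrCharacter G χ)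
    {l₁ l₂ : M → ℂ} (h₁ : IsIrrCharacter M l₁) (h₂ : IsIrrCharacter M l₂)
    (c₁ : classInner (fun m : M => χ m) l₁ ≠ 0) (c₂ : classInner (fun m : M => χ m) l₂ ≠ 0)
    (i₁ : ∀ q : Q, cj M (ι q) l₁ = l₁) (i₂ : ∀ q : Q, cj M (ι q) l₂ = l₂) : l₁ = l₂ := by
  classical
  have : Fact (Nat.Prime 2) := ⟨Nat.prime_two⟩
  obtain ⟨⟨P, hP⟩, hN⟩ := hSN
  obtain ⟨k, hk⟩ := clifford_conj M hχ h₁ h₂ c₁ c₂
  have j₁ : ∀ x ∈ (P : Subgroup G), cj M x l₁ = l₁ := by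
    intro x hx
    rw [hP] at hx
    obtain ⟨q, rfl⟩ := hx
    exact i₁ q
  have j₂ : ∀ x ∈ (P : Subgroup G), cj M x l₂ = l₂ := by
    intro x hx
    rw [hP] at hx
    obtain ⟨q, rfl⟩ := hx
    exact i₂ q
  have h1 : (P : Subgroup G) ≤ inertia M l₁ := fun x hx => j₁ x hx
  have h2 : ((k • P : Sylow 2 G) : Subgroup G) ≤ inertia M l₁ := by
    intro z hz
    have hz' : k⁻¹ * z * k ∈ P := (Cfsg.Agent.Lib.Helper69.mem_smul_sylow P k z).mp hz
    have h3 := j₂ _ hz'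
    rw [hk, cj_cj] at h3
    rw [mem_inertia]
    have h4 := congrArg (cj M k⁻¹) h3
    rw [cj_cj, cj_cj] at h4
    have e1 : k * (k⁻¹ * z * k) * k⁻¹ = z := by group
    rw [e1, mul_inv_cancel, cj_one] at h4
    exact h4
  obtain ⟨c, hc, hcP⟩ := Cfsg.Agent.Lib.Helper69.exists_smul_eq_of_le _ P (k • P) h1 h2
  rw [← mul_smul] at hcP
  have hck : c * k ∈ Subgroup.normalizer ((P : Subgroup G) : Set G) :=
    Sylow.smul_eq_iff_mem_normalizer.mp hcP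
  rw [hP, hN, ← hP] at hck
  have h5 := j₁ _ hck
  rw [← cj_cj, (mem_inertia M _ c).mp hc, ← hk] at h5
  exact h5.symm

end Cfsg.Agent.Lib.Helper50.RO
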