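import Cfsg.Agent.Lib.Helper15.RealP2
import Cfsg.Agent.Lib.Helper15.RealN2
import Cfsg.Agent.Lib.Helper15.RealN4
import Cfsg.Agent.Lib.Helper15.CoprimeCount
import Cfsg.Agent.Lib.Helper76.OddIndexReal
import Cfsg.Agent.Lib.Helper80.Inflation
import Cfsg.Agent.S0864

/-!
# Real odd-degree characters of solvable groups (S4581 part 2): definitions

`Q` is a FIXED finite group and `ι : Q →* G` a homomorphism (not necessarily injective) whose
image is a self-normalizing Sylow 2-subgroup of `G`.  Working with `χ ∘ ι` instead of the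
restriction of `χ` to the Sylow subgroup makes the passage to quotients `G ⧸ M` and to subgroups
`T ≤ G` definitional.
-/

set_option autoImplicit false

namespace Cfsg.Agent.Lib.Helper50.RO

open Cfsg Cfsg.Agent.Lib Cfsg.Agent.Lib.Helper15
open scoped ComplexConjugate

/-- `μ` is a linear constituent of `χ ∘ ι`. -/
def LC {Q G : Type*} [Group Q] [Fintype Q] [Group G] (ι : Q →* G) (χ : G → ℂ) (μ : Q → ℂ) : Prop :=
  IsCharacter Q μ ∧ μ 1 = 1 ∧ classInner (χ ∘ ι) μ ≠ 0

/-- the image of `ι` is a self-normalizing Sylow 2-subgroup. -/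
def SN {Q G : Type*} [Group Q] [Group G] (ι : Q →* G) : Prop :=
  (∃ P : Sylow 2 G, (P : Subgroup G) = ι.range) ∧
    Subgroup.normalizer (ι.range : Set G) = ι.range

/-- (U): an odd-degree irreducible character has at most one linear constituent on `Q`. -/
def NU {Q G : Type*} [Group Q] [Fintype Q] [Group G] (ι : Q →* G) : Prop :=
  ∀ χ : G → ℂ, IsIrrCharacter G χ → Odd (charDegree χ) →
    ∀ μ₁ μ₂ : Q → ℂ, LC ι χ μ₁ → LC ι χ μ₂ → μ₁ = μ₂

/-- (I): two odd-degree irreducible characters with a common linear constituent are equal. -/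
def NI {Q G : Type*} [Group Q] [Fintype Q] [Group G] (ι : Q →* G) : Prop :=
  ∀ χ₁ χ₂ : G → ℂ, IsIrrCharacter G χ₁ → IsIrrCharacter G χ₂ → Odd (charDegree χ₁) →
    Odd (charDegree χ₂) → ∀ μ : Q → ℂ, LC ι χ₁ μ → LC ι χ₂ μ → χ₁ = χ₂

/-- `lam` is the linear character of `M` lying under `μ` (along `ι`). -/
def Und {Q G : Type*} [Group Q] [Group G] (ι : Q →* G) (M : Subgroup G) (μ : Q → ℂ)
    (lam : M → ℂ) : Prop :=
  IsCharacter M lam ∧ lam 1 = 1 ∧ ∀ (q : Q) (h : ι q ∈ M), lam ⟨ι q, h⟩ = μ q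

/-- all odd-degree irreducible characters are real. -/
def Hyp (G : Type*) [Group G] : Prop :=
  ∀ χ : IrrCharacter G, Odd (charDegree (χ : G → ℂ)) → ∀ g : G, ((χ : G → ℂ) g).im = 0

/-- pointwise complex conjugate. -/
def cc {X : Type*} (f : X → ℂ) : X → ℂ := fun x => conj (f x)

end Cfsg.Agent.Lib.Helper50.RO
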