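import Cfsg.Agent.Lib.Helper50.RO.Base
import Cfsg.Agent.Lib.Helper2.PGroupFrattini
import Cfsg.Agent.Lib.Helper15.LinearHom

set_option autoImplicit false

namespace Cfsg.Agent.Lib.Helper50.RO

open Cfsg Cfsg.Agent.Lib Cfsg.Agent.Lib.Helper15
open scoped ComplexConjugate

/-- [E1] linear characters of a 2-group with `P' = Φ(P)` are real. -/
theorem linear_real {P : Type*} [Group P] [Finite P] (h2 : IsPGroup 2 P)
    (h : commutator P = frattini P) {ν : P → ℂ} (hν : IsCharacter P ν) (h1 : ν 1 = 1) :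
    cc ν = ν := by
  have : Fact (Nat.Prime 2) := ⟨Nat.prime_two⟩
  obtain ⟨f, rfl⟩ := exists_toFn hν h1
  funext x
  have hx : x ^ 2 ∈ commutator P := by
    rw [h]
    exact Cfsg.Agent.Lib.Helper2.pow_p_mem_frattini h2 x
  have hker : commutator P ≤ f.ker := Abelianization.commutator_subset_ker f
  have h3 : f (x ^ 2) = 1 := hker hx
  rw [map_pow] at h3
  have h4 : ((f x : ℂˣ) : ℂ) ^ 2 = 1 := by
    have := congrArg (fun u : ℂˣ => (u : ℂ)) h3
    simpa using this
  show conj (toFn f x) = toFn f x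
  rw [toFn_apply]
  have h6 : (((f x : ℂˣ) : ℂ) - 1) * (((f x : ℂˣ) : ℂ) + 1) = 0 := by linear_combination h4
  rcases mul_eq_zero.mp h6 with h5 | h5
  · rw [sub_eq_zero.mp h5]; simp
  · rw [eq_neg_of_add_eq_zero_left h5]; simp

end Cfsg.Agent.Lib.Helper50.RO
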