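import Cfsg.Agent.Lib.Helper50.RO.Base
import Cfsg.Agent.Lib.Helper15.RealGl

set_option autoImplicit false

namespace Cfsg.Agent.Lib.Helper50.RO

open Cfsg Cfsg.Agent.Lib Cfsg.Agent.Lib.Helper15
open scoped ComplexConjugate

/-- [E2] complex conjugation of characters and of linear constituents. -/
theorem cc_facts {Q G : Type*} [Group Q] [Fintype Q] [Group G] [Finite G] (ι : Q →* G)
    {χ : G → ℂ} (hχ : IsIrrCharacter G χ) :
    IsIrrCharacter G (cc χ) ∧ charDegree (cc χ) = charDegree χ ∧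
      ∀ μ : Q → ℂ, LC ι χ μ → LC ι (cc χ) (cc μ) := by
  refine ⟨Helper81.IsIrrCharacter.star hχ, ?_, ?_⟩
  · unfold charDegree cc
    rw [Complex.conj_re]
  · intro μ hμ
    refine ⟨Helper3.IsCharacter.conj hμ.1, by simp [cc, hμ.2.1], ?_⟩
    have : classInner (cc χ ∘ ι) (cc μ) = conj (classInner (χ ∘ ι) μ) :=
      classInner_conj_conj (χ ∘ ι) μ
    rw [this]
    intro h0
    exact hμ.2.2 ((map_eq_zero _).1 h0)

end Cfsg.Agent.Lib.Helper50.RO
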