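import Cfsg.Agent.Lib.Helper50.RO.Base

set_option autoImplicit false

namespace Cfsg.Agent.Lib.Helper50.RO

open Cfsg Cfsg.Agent.Lib Cfsg.Agent.Lib.Helper15
open scoped ComplexConjugate

/-- [F1] a character of odd degree has an irreducible constituent of odd degree. -/
theorem exists_odd_constituent {G : Type*} [Group G] [Fintype G] {α : G → ℂ}
    (hα : IsCharacter G α) (hd : Odd (charDegree α)) :
    ∃ χ : G → ℂ, IsIrrCharacter G χ ∧ Odd (charDegree χ) ∧ classInner α χ ≠ 0 := by
  classical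
  obtain ⟨m, hm, -, hdeg⟩ := Helper80.exists_mult_spec hα
  have hex : ∃ ν : IrrCharacter G, ¬ 2 ∣ m ν * charDegree (ν : G → ℂ) := by
    by_contra hcon
    push Not at hcon
    have h2 : 2 ∣ charDegree α := by
      rw [hdeg]
      exact Finset.dvd_sum (fun ν _ => hcon ν)
    exact (Nat.not_even_iff_odd.2 hd) (even_iff_two_dvd.2 h2)
  obtain ⟨ν, hν⟩ := hex
  refine ⟨ν, ν.2, ?_, ?_⟩
  · rw [← Nat.not_even_iff_odd, even_iff_two_dvd]
    intro h0
    exact hν (Dvd.dvd.mul_left h0 _)
  · rw [hm]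
    intro h0
    apply hν
    have : m ν = 0 := by exact_mod_cast h0
    rw [this, zero_mul]
    exact dvd_zero 2

end Cfsg.Agent.Lib.Helper50.RO
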