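import Cfsg.Agent.Lib.Helper50.RO.Base
import Cfsg.Agent.Lib.Helper50.RO.F1

set_option autoImplicit false

namespace Cfsg.Agent.Lib.Helper50.RO

open Cfsg Cfsg.Agent.Lib Cfsg.Agent.Lib.Helper15
open scoped ComplexConjugate

/-- [E3] existence of a linear constituent on a Sylow 2-subgroup. -/
theorem exists_LC {G : Type*} [Group G] [Finite G] (P : Sylow 2 G) [Fintype ↥(P : Subgroup G)]
    {χ : G → ℂ} (hχ : IsCharacter G χ) (hd : Odd (charDegree χ)) :
    ∃ μ : ↥(P : Subgroup G) → ℂ, LC (P : Subgroup G).subtype χ μ := by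
  have : Fact (Nat.Prime 2) := ⟨Nat.prime_two⟩
  obtain ⟨ν, h1, h2⟩ := Helper15.exists_linear_constituent 2 (P : Subgroup G) P.2 hχ
    (fun h => (Nat.not_even_iff_odd.2 hd) (even_iff_two_dvd.2 h))
  exact ⟨ν, irr_char ν.2, h2, h1⟩

/-- [F4] every linear character `μ` of a Sylow 2-subgroup `P` is a linear constituent of some
odd-degree irreducible character (a constituent of `ind_P^G μ`, which has odd degree `|G:P|`). -/
theorem exists_odd_over {G : Type*} [Group G] [Finite G] (P : Sylow 2 G)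
    [Fintype ↥(P : Subgroup G)] {μ : ↥(P : Subgroup G) → ℂ} (hμ : IsCharacter ↥(P : Subgroup G) μ)
    (h1 : μ 1 = 1) :
    ∃ χ : G → ℂ, IsIrrCharacter G χ ∧ Odd (charDegree χ) ∧ LC (P : Subgroup G).subtype χ μ := by
  classical
  have : Fact (Nat.Prime 2) := ⟨Nat.prime_two⟩
  have := Fintype.ofFinite G
  have hα : IsCharacter G (indFun (P : Subgroup G) μ) := char_indFun _ hμ
  have hdeg : charDegree (indFun (P : Subgroup G) μ) = (P : Subgroup G).index := by
    have h2 := Helper80.char_one_eq_charDegree hα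
    rw [indFun_one, h1, mul_one] at h2
    exact_mod_cast h2.symm
  have hodd : Odd (charDegree (indFun (P : Subgroup G) μ)) := by
    rw [hdeg, ← Nat.not_even_iff_odd, even_iff_two_dvd]
    exact P.not_dvd_index
  obtain ⟨χ, hχ, hχodd, hne⟩ := exists_odd_constituent hα hodd
  refine ⟨χ, hχ, hχodd, hμ, h1, ?_⟩
  rw [classInner_indFun_left _ _ _ (irr_cf hχ)] at hne
  rw [inner_comm_of_char hμ (char_restrict (irr_char hχ) _)] at hne
  exact hne

end Cfsg.Agent.Lib.Helper50.RO
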