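import Cfsg.Agent.Lib.Helper50.RO.Base

set_option autoImplicit false

namespace Cfsg.Agent.Lib.Helper50.RO

open Cfsg Cfsg.Agent.Lib Cfsg.Agent.Lib.Helper15
open scoped ComplexConjugate

/-- [F2] if all linear characters are real then squares lie in the commutator subgroup. -/
theorem sq_mem_commutator {P : Type*} [Group P] [Finite P]
    (h : ∀ ν : P → ℂ, IsCharacter P ν → ν 1 = 1 → cc ν = ν) (x : P) : x ^ 2 ∈ commutator P := by
  by_contra hx
  have ha : (Abelianization.of (x ^ 2) : Abelianization P) ≠ 1 := by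
    intro h1
    exact hx ((QuotientGroup.eq_one_iff _).1 h1)
  haveI : Finite (Abelianization P) := by unfold Abelianization; infer_instance
  haveI : NeZero (Monoid.exponent (Abelianization P)) :=
    ⟨(Monoid.ExponentExists.of_finite).exponent_ne_zero⟩
  haveI : NeZero ((Monoid.exponent (Abelianization P) : ℕ) : ℂ) :=
    ⟨Nat.cast_ne_zero.2 (NeZero.ne _)⟩
  obtain ⟨φ, hφ⟩ := CommGroup.exists_apply_ne_one_of_hasEnoughRootsOfUnity
    (Abelianization P) ℂ ha
  set f : P →* ℂˣ := φ.comp Abelianization.of with hf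
  have h1 := h (toFn f) (char_toFn f) (toFn_one' f)
  have h2 : conj ((f x : ℂˣ) : ℂ) = (f x : ℂ) := congrFun h1 x
  have h3 : ((f x : ℂˣ) : ℂ) * conj ((f x : ℂˣ) : ℂ) = 1 :=
    linear_mul_conj (char_toFn f) (toFn_one' f) x
  rw [h2] at h3
  apply hφ
  have h4 : φ (Abelianization.of (x ^ 2)) = f x * f x := by
    rw [hf, MonoidHom.comp_apply, ← map_mul, ← map_mul, pow_two]
  rw [h4]
  exact Units.ext (by simpa using h3)

end Cfsg.Agent.Lib.Helper50.RO
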