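import Cfsg.Agent.Lib.Helper50.RO.Base
import Cfsg.Agent.Lib.Helper2.PGroupFrattini
import Cfsg.Agent.Lib.Helper1.Frattini

set_option autoImplicit false

namespace Cfsg.Agent.Lib.Helper50.RO

open Cfsg Cfsg.Agent.Lib Cfsg.Agent.Lib.Helper15
open scoped ComplexConjugate

theorem F3_isCoatom_comap {G H : Type*} [Group G] [Group H] {φ : G →* H}
    (hφ : Function.Surjective φ) {M : Subgroup H} (hM : IsCoatom M) : IsCoatom (M.comap φ) := by
  refine ⟨fun h => hM.1 ?_, fun K hK => ?_⟩
  · apply Subgroup.comap_injective hφ
    rw [h, Subgroup.comap_top]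
  · have hker : φ.ker ≤ K := le_trans (Subgroup.ker_le_comap φ M) hK.le
    have h1 : M ≤ K.map φ := by
      rw [← Subgroup.map_comap_eq_self_of_surjective hφ M]
      exact Subgroup.map_mono hK.le
    have h2 : M ≠ K.map φ := by
      intro h
      have h3 : K ≤ M.comap φ := by
        rw [h]; exact Subgroup.le_comap_map φ K
      exact absurd hK (not_lt_of_ge h3)
    have h4 := hM.2 _ (lt_of_le_of_ne h1 h2)
    rw [← Subgroup.comap_map_eq_self hker, h4, Subgroup.comap_top]

/-- [F3] `P' = Φ(P)` for a 2-group whose squares lie in `P'`. -/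
theorem commutator_eq_frattini {P : Type*} [Group P] [Finite P] (h2 : IsPGroup 2 P)
    (h : ∀ x : P, x ^ 2 ∈ commutator P) : commutator P = frattini P := by
  apply le_antisymm (Helper2.commutator_le_frattini h2)
  intro x hx
  by_contra hxc
  have hbot : frattini (P ⧸ commutator P) = ⊥ := by
    apply Helper2.frattini_eq_bot_of_elementary (p := 2)
    · intro a b
      exact mul_comm (G := Abelianization P) a b
    · intro a
      induction a using QuotientGroup.induction_on with
      | H a =>
        rw [← QuotientGroup.mk_pow]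
        exact (QuotientGroup.eq_one_iff _).2 (h a)
  have hx1 : (QuotientGroup.mk x : P ⧸ commutator P) ∉ frattini (P ⧸ commutator P) := by
    rw [hbot, Subgroup.mem_bot, QuotientGroup.eq_one_iff]
    exact hxc
  rw [Helper1.mem_frattini_iff] at hx1
  push Not at hx1
  obtain ⟨M, hM, hxM⟩ := hx1
  have hco := F3_isCoatom_comap (QuotientGroup.mk'_surjective (commutator P)) hM
  exact hxM ((Helper1.mem_frattini_iff.1 hx) _ hco)

end Cfsg.Agent.Lib.Helper50.RO
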