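import Cfsg.Agent.Lib.Helper50.RO.Base

set_option autoImplicit false

namespace Cfsg.Agent.Lib.Helper50.RO

open Cfsg Cfsg.Agent.Lib Cfsg.Agent.Lib.Helper15
open scoped ComplexConjugate

/-- [G1] a `G`-invariant linear character of the normal 2-subgroup `M` that extends to the Sylow
2-subgroup `ι.range` extends to `G` (S0864). -/
theorem exists_ext {Q G : Type*} [Group Q] [Group G] [Finite G] (M : Subgroup G)
    [M.Normal] (ι : Q →* G) (hSN : SN ι) (hM2 : IsPGroup 2 M) (hMr : M ≤ ι.range)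
    {ν₀ : ι.range → ℂ} (hν₀ : IsCharacter ι.range ν₀) (hν₀1 : ν₀ 1 = 1)
    (hinv : ∀ g : G, cj M g (resFun hMr ν₀) = resFun hMr ν₀) :
    ∃ ν : G → ℂ, IsCharacter G ν ∧ ν 1 = 1 ∧ ∀ m : M, ν m = resFun hMr ν₀ m := by
  haveI : Fact (Nat.Prime 2) := ⟨Nat.prime_two⟩
  obtain ⟨⟨P, hP⟩, -⟩ := hSN
  have hlc : IsCharacter M (resFun hMr ν₀) := char_resFun hMr hν₀
  have hl1 : resFun hMr ν₀ 1 = 1 := hν₀1
  apply Cfsg.Agent.S0864.result M (resFun hMr ν₀) ⟨hlc, hl1⟩ (fun g n => congrFun (hinv g) n)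
  intro p hp hdvd
  have hp2 : p = 2 := by
    obtain ⟨k, hk⟩ := IsPGroup.iff_card.mp hM2
    obtain ⟨f, hf⟩ := exists_toFn hlc hl1
    rw [hf, orderOf_toFn] at hdvd
    have hpow : f ^ (Nat.card M) = 1 := by
      ext m
      rw [MonoidHom.pow_apply, ← map_pow, pow_card_eq_one', map_one, MonoidHom.one_apply]
    have h1 : p ∣ 2 ^ k := by
      rw [← hk]
      exact hdvd.trans (orderOf_dvd_of_pow_eq_one hpow)
    exact (Nat.prime_dvd_prime_iff_eq hp Nat.prime_two).mp (hp.dvd_of_dvd_pow h1)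
  subst hp2
  refine ⟨ι.range, hMr, ν₀, ?_, ?_, hν₀, hν₀1, fun n => rfl⟩
  · rw [← hP]
    exact Nat.Coprime.symm ((Nat.Prime.coprime_iff_not_dvd Nat.prime_two).2 P.not_dvd_index)
  · obtain ⟨n, hn⟩ := IsPGroup.iff_card.mp P.2
    have h1 : M.relIndex ι.range ∣ 2 ^ n := by
      rw [← hn, hP]
      exact Subgroup.index_dvd_card _
    obtain ⟨m, -, hm⟩ := (Nat.dvd_prime_pow Nat.prime_two).mp h1
    exact ⟨m, hm⟩

end Cfsg.Agent.Lib.Helper50.RO
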