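import Cfsg.Agent.Lib.Helper50.RO.Base

set_option autoImplicit false

namespace Cfsg.Agent.Lib.Helper50.RO

open Cfsg Cfsg.Agent.Lib Cfsg.Agent.Lib.Helper15
open scoped ComplexConjugate

/-- [G2] twisting by the conjugate of an extension of `lam` puts `M` in the kernel. -/
theorem twist_irr {G : Type*} [Group G] [Fintype G] (M : Subgroup G) [M.Normal] [Fintype M]
    {χ ν : G → ℂ} {lam : M → ℂ} (hχ : IsIrrCharacter G χ) (hν : IsCharacter G ν) (hν1 : ν 1 = 1)
    (hνM : ∀ m : M, ν m = lam m) (hov : classInner (fun m : M => χ m) lam ≠ 0) :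
    IsIrrCharacter G (cc ν * χ) ∧ charDegree (cc ν * χ) = charDegree χ ∧
      ∀ m ∈ M, (cc ν * χ) m = (cc ν * χ) 1 := by
  have hcc : IsCharacter G (cc ν) := Helper3.IsCharacter.conj hν
  have hcc1 : cc ν 1 = 1 := by
    show conj (ν 1) = 1
    rw [hν1, map_one]
  have hlam : lam = fun m : M => ν m := funext fun m => (hνM m).symm
  have hlamc : IsCharacter M lam := by
    rw [hlam]
    exact char_restrict hν M
  have hlam1 : lam 1 = 1 := by
    rw [← hνM 1]
    exact hν1
  have hinv : ∀ g : G, cj M g lam = lam := by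
    intro g
    rw [hlam]
    exact cj_restrict M g (char_cf hν)
  have hres := restrict_eq_smul_of_invariant M hχ (irr_of_linear hlamc hlam1) hov hinv
  have hval : ∀ m : M, (cc ν * χ) m = classInner (fun m : M => χ m) lam := by
    intro m
    have h1 : χ m = classInner (fun m : M => χ m) lam * lam m := congrFun hres m
    show conj (ν m) * χ m = _
    rw [h1, hνM m]
    calc conj (lam m) * (classInner (fun m : M => χ m) lam * lam m)
        = classInner (fun m : M => χ m) lam * (lam m * conj (lam m)) := by ring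
      _ = _ := by rw [linear_mul_conj hlamc hlam1, mul_one]
  refine ⟨irr_linear_mul hcc hcc1 hχ, ?_, ?_⟩
  · unfold charDegree
    rw [Pi.mul_apply, hcc1, one_mul]
  · intro m hm
    rw [hval ⟨m, hm⟩]
    exact (hval 1).symm

end Cfsg.Agent.Lib.Helper50.RO
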