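import Cfsg.Agent.Lib.Helper50.RO.Base

set_option autoImplicit false

namespace Cfsg.Agent.Lib.Helper50.RO

open Cfsg Cfsg.Agent.Lib Cfsg.Agent.Lib.Helper15
open scoped ComplexConjugate

theorem G34_cc_char {X : Type*} [Group X] [Finite X] {ν : X → ℂ} (hν : IsCharacter X ν)
    (hν1 : ν 1 = 1) : IsCharacter X (cc ν) ∧ cc ν 1 = 1 :=
  ⟨Helper3.IsCharacter.conj hν, by simp [cc, hν1]⟩

/-- [G3] twisting linear constituents. -/
theorem twist_LC {Q G : Type*} [Group Q] [Fintype Q] [Group G] [Finite G] (ι : Q →* G)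
    {χ ν : G → ℂ} (hν : IsCharacter G ν) (hν1 : ν 1 = 1) {μ : Q → ℂ} (h : LC ι χ μ) :
    LC ι (cc ν * χ) (cc (ν ∘ ι) * μ) := by
  have hνQ : IsCharacter Q (ν ∘ ι) := Helper3.IsCharacter.comp_hom hν ι
  have hνQ1 : (ν ∘ ι) 1 = 1 := by simp [hν1]
  obtain ⟨a, b⟩ := G34_cc_char hνQ hνQ1
  refine ⟨Helper3.IsCharacter.mul a h.1, by rw [Pi.mul_apply, b, h.2.1, one_mul], ?_⟩
  have : (cc ν * χ) ∘ ι = cc (ν ∘ ι) * (χ ∘ ι) := rfl
  rw [this, classInner_linear_mul a b]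
  exact h.2.2

/-- [G4] cancellation of a linear twist. -/
theorem twist_cancel {X : Type*} [Group X] [Finite X] {ν : X → ℂ} (hν : IsCharacter X ν)
    (hν1 : ν 1 = 1) {f g : X → ℂ} (h : cc ν * f = cc ν * g) : f = g := by
  obtain ⟨a, b⟩ := G34_cc_char hν hν1
  funext x
  have h1 := congrFun h x
  rw [Pi.mul_apply, Pi.mul_apply] at h1
  exact mul_left_cancel₀ (linear_ne_zero a b x) h1

end Cfsg.Agent.Lib.Helper50.RO
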