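import Cfsg.Agent.Lib.Helper50.RO.Base

set_option autoImplicit false

namespace Cfsg.Agent.Lib.Helper50.RO

open Cfsg Cfsg.Agent.Lib Cfsg.Agent.Lib.Helper15
open scoped ComplexConjugate

/-- [H1] the hypothesis passes to quotients. -/
theorem Hyp.quot {G : Type*} [Group G] [Finite G] (h : Hyp G) (M : Subgroup G) [M.Normal] :
    Hyp (G ⧸ M) := by
  intro χ hodd g
  obtain ⟨x, rfl⟩ := QuotientGroup.mk_surjective g
  have hirr := Helper80.isIrrCharacter_inflate M χ.2
  have hdeg : charDegree (fun g : G => (χ : G ⧸ M → ℂ) (g : G ⧸ M)) = charDegree (χ : G ⧸ M → ℂ) := by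
    simp [charDegree]
  exact h ⟨_, hirr⟩ (by rw [hdeg]; exact hodd) x

end Cfsg.Agent.Lib.Helper50.RO
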