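import Cfsg.Agent.Lib.Helper50.RO.Base

set_option autoImplicit false

namespace Cfsg.Agent.Lib.Helper50.RO

open Cfsg Cfsg.Agent.Lib Cfsg.Agent.Lib.Helper15
open scoped ComplexConjugate

/-- [M0] a nontrivial finite solvable group has a nontrivial normal subgroup that has odd order
or is a 2-group. -/
theorem exists_normal_odd_or_two {G : Type*} [Group G] [Finite G] [Group.IsSolvable G]
    [Nontrivial G] : ∃ M : Subgroup G, M.Normal ∧ M ≠ ⊥ ∧ (Odd (Nat.card M) ∨ IsPGroup 2 M) := by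
  obtain ⟨p, N, hp, hN, hne, hpN, -, -⟩ := Helper1.exists_normal_pSubgroup_of_solvable (G := G)
  refine ⟨N, hN, hne, ?_⟩
  haveI : Fact p.Prime := ⟨hp⟩
  rcases hp.eq_two_or_odd' with rfl | hodd
  · exact Or.inr hpN
  · left
    obtain ⟨k, hk⟩ := (IsPGroup.iff_card).1 hpN
    rw [hk]
    exact hodd.pow

theorem Z_irr_eq_one {G : Type*} [Group G] [Subsingleton G] {χ : G → ℂ}
    (hχ : IsIrrCharacter G χ) : χ = fun _ => 1 := by
  classical
  haveI : Fintype G := Fintype.ofFinite G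
  apply irr_eq_of_inner_ne_zero hχ irr_one
  unfold classInner
  have h1 : χ 1 ≠ 0 := irr_one_ne_zero hχ
  have h2 : (Finset.univ : Finset G) = {1} := by
    ext x; simp [Subsingleton.elim x 1]
  rw [h2]
  simp [h1]

/-- [Z] base case: the trivial group. -/
theorem base_case {Q G : Type*} [Group Q] [Fintype Q] [Group G] [Subsingleton G] (ι : Q →* G) :
    NU ι ∧ NI ι := by
  constructor
  · intro χ hχ _ μ₁ μ₂ h₁ h₂
    have hχ1 := Z_irr_eq_one hχ
    have key : ∀ μ : Q → ℂ, LC ι χ μ → μ = fun _ => 1 := by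
      intro μ hμ
      have h3 : χ ∘ ι = fun _ => 1 := by rw [hχ1]; rfl
      have h4 := hμ.2.2
      rw [h3] at h4
      exact (irr_eq_of_inner_ne_zero irr_one (irr_of_linear hμ.1 hμ.2.1) h4).symm
    rw [key μ₁ h₁, key μ₂ h₂]
  · intro χ₁ χ₂ h1 h2 _ _ _ _ _
    rw [Z_irr_eq_one h1, Z_irr_eq_one h2]

end Cfsg.Agent.Lib.Helper50.RO
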