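import Cfsg.Agent.Lib.Helper50.RO.Base

set_option autoImplicit false

namespace Cfsg.Agent.Lib.Helper50.RO

open Cfsg Cfsg.Agent.Lib Cfsg.Agent.Lib.Helper15
open scoped ComplexConjugate

theorem QUI_deflate {Q G : Type*} [Group Q] [Fintype Q] [Group G] [Finite G] (M : Subgroup G)
    [M.Normal] (ι : Q →* G) {β : G → ℂ}
    (hβ : IsIrrCharacter G β) (hodd : Odd (charDegree β)) (hker : ∀ m ∈ M, β m = β 1) :
    ∃ β' : G ⧸ M → ℂ, IsIrrCharacter (G ⧸ M) β' ∧ Odd (charDegree β') ∧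
      (∀ g : G, β' (g : G ⧸ M) = β g) ∧
      ∀ μ : Q → ℂ, LC ι β μ → LC ((QuotientGroup.mk' M).comp ι) β' μ := by
  obtain ⟨β', h1, h2⟩ := Helper80.exists_deflate_irr (N := M) hβ hker
  refine ⟨β', h1, ?_, h2, ?_⟩
  · have : charDegree β' = charDegree β := by
      unfold charDegree
      rw [← h2 1]; rfl
    rw [this]; exact hodd
  · intro μ hμ
    refine ⟨hμ.1, hμ.2.1, ?_⟩
    have : β' ∘ ((QuotientGroup.mk' M).comp ι) = β ∘ ι := by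
      funext q
      exact h2 (ι q)
    rw [this]
    exact hμ.2.2

/-- [QU] (U) for characters with `M` in the kernel, from (U) for `G ⧸ M`. -/
theorem quot_U {Q G : Type*} [Group Q] [Fintype Q] [Group G] [Finite G] (M : Subgroup G)
    [M.Normal] (ι : Q →* G) (h : NU ((QuotientGroup.mk' M).comp ι)) {β : G → ℂ}
    (hβ : IsIrrCharacter G β) (hodd : Odd (charDegree β)) (hker : ∀ m ∈ M, β m = β 1)
    {μ₁ μ₂ : Q → ℂ} (h₁ : LC ι β μ₁) (h₂ : LC ι β μ₂) : μ₁ = μ₂ := by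
  obtain ⟨β', a, b, -, d⟩ := QUI_deflate M ι hβ hodd hker
  exact h β' a b μ₁ μ₂ (d μ₁ h₁) (d μ₂ h₂)

/-- [QI] (I) for characters with `M` in the kernel, from (I) for `G ⧸ M`. -/
theorem quot_I {Q G : Type*} [Group Q] [Fintype Q] [Group G] [Finite G] (M : Subgroup G)
    [M.Normal] (ι : Q →* G) (h : NI ((QuotientGroup.mk' M).comp ι)) {β₁ β₂ : G → ℂ}
    (hβ₁ : IsIrrCharacter G β₁) (hβ₂ : IsIrrCharacter G β₂) (hodd₁ : Odd (charDegree β₁))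
    (hodd₂ : Odd (charDegree β₂)) (hker₁ : ∀ m ∈ M, β₁ m = β₁ 1) (hker₂ : ∀ m ∈ M, β₂ m = β₂ 1)
    {μ : Q → ℂ} (h₁ : LC ι β₁ μ) (h₂ : LC ι β₂ μ) : β₁ = β₂ := by
  obtain ⟨β₁', a1, b1, c1, d1⟩ := QUI_deflate M ι hβ₁ hodd₁ hker₁
  obtain ⟨β₂', a2, b2, c2, d2⟩ := QUI_deflate M ι hβ₂ hodd₂ hker₂
  have he := h β₁' β₂' a1 a2 b1 b2 μ (d1 μ h₁) (d2 μ h₂)
  funext g
  rw [← c1 g, ← c2 g, he]

end Cfsg.Agent.Lib.Helper50.RO
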