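import Cfsg.Agent.Lib.Helper50.RO.Base

set_option autoImplicit false

namespace Cfsg.Agent.Lib.Helper50.RO

open Cfsg Cfsg.Agent.Lib Cfsg.Agent.Lib.Helper15
open scoped ComplexConjugate

/-- [S1] a real irreducible character of odd degree has every normal subgroup of odd order in its
kernel (`Helper76.parity_of_real_of_odd` for `χ_M`, then `Helper15.ker_of_trivial_constituent`). -/
theorem real_ker {G : Type*} [Group G] [Finite G] (M : Subgroup G) [M.Normal]
    (hodd : Odd (Nat.card M)) {χ : G → ℂ} (hχ : IsIrrCharacter G χ) (hd : Odd (charDegree χ))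
    (hreal : ∀ g, (χ g).im = 0) : ∀ m ∈ M, χ m = χ 1 := by
  classical
  have := Fintype.ofFinite G
  have hres : IsCharacter M (fun m : M => χ m) := char_restrict (irr_char hχ) M
  obtain ⟨a, ha⟩ := inner_nat hres (irr_char (irr_one (G := M)))
  have hd1 : (fun m : M => χ m) 1 = (charDegree χ : ℂ) := by
    simpa using Helper80.char_one_eq_charDegree (irr_char hχ)
  have hpar := Helper76.parity_of_real_of_odd hodd hres
    (fun x => Complex.conj_eq_iff_im.2 (hreal x)) a (charDegree χ) ha hd1
  apply ker_of_trivial_constituent M hχ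
  rw [ha]
  intro h0
  have ha0 : a = 0 := by exact_mod_cast h0
  rw [ha0] at hpar
  have h2 : ((charDegree χ : ℕ) : ZMod 2) = 0 := by rw [← hpar]; simp
  rw [ZMod.natCast_eq_zero_iff] at h2
  exact (Nat.not_even_iff_odd.2 hd) (even_iff_two_dvd.2 h2)

end Cfsg.Agent.Lib.Helper50.RO
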