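import Cfsg.Agent.Lib.Helper50.RO.Base
import Cfsg.Agent.Lib.Helper50.RO.S1
import Cfsg.Agent.Lib.Helper50.RO.F1
import Cfsg.Agent.Lib.Helper15.RelGl1

set_option autoImplicit false

namespace Cfsg.Agent.Lib.Helper50.RO

open Cfsg Cfsg.Agent.Lib Cfsg.Agent.Lib.Helper15
open scoped ComplexConjugate

/-- [S2] under `Hyp G` the only `P`-invariant irreducible character of a normal subgroup of odd
order is the principal one. -/
theorem inv_trivial {G : Type*} [Group G] [Finite G] (h : Hyp G) (M : Subgroup G) [hMn : M.Normal]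
    (hodd : Odd (Nat.card M)) (P : Sylow 2 G) (θ : IrrCharacter M)
    (hinv : InvUnder M (P : Subgroup G) (θ : M → ℂ)) : (θ : M → ℂ) = fun _ => 1 := by
  classical
  have : Fact (Nat.Prime 2) := ⟨Nat.prime_two⟩
  have := Fintype.ofFinite G
  set K : Subgroup G := (P : Subgroup G) ⊔ M with hK
  have hMK : M ≤ K := le_sup_right
  have hPK : (P : Subgroup G) ≤ K := le_sup_left
  have hθ' : IsIrrCharacter (M.subgroupOf K) (downFun M K (θ : M → ℂ)) := irr_downFun hMK θ.2
  -- coprimality
  have hcop : (Nat.card (M.subgroupOf K)).Coprime (M.subgroupOf K).index := by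
    rw [card_subgroupOf_of_le hMK]
    have h1 : (M.subgroupOf K).index = M.relIndex (P : Subgroup G) := by
      change M.relIndex K = _
      rw [hK, Subgroup.relIndex_sup_right]
    rw [h1]
    obtain ⟨k, hk⟩ := IsPGroup.iff_card.1 P.2
    have h2 : M.relIndex (P : Subgroup G) ∣ 2 ^ k := hk ▸ Subgroup.relIndex_dvd_card _ _
    refine Nat.Coprime.coprime_dvd_right h2 ?_
    exact Nat.Coprime.pow_right _ (Nat.coprime_two_right.2 hodd)
  -- invariance
  have hinv' : ∀ (g : K) (n : M.subgroupOf K),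
      downFun M K (θ : M → ℂ) ⟨g * n * g⁻¹, (inferInstance : (M.subgroupOf K).Normal).conj_mem
        (n : K) n.2 g⟩ = downFun M K (θ : M → ℂ) n := by
    intro g n
    have hg0 : (g : G) ∈ (P : Subgroup G) ⊔ M := g.2
    obtain ⟨x, hx, m, hm, hg⟩ := Subgroup.mem_sup_of_normal_right.1 hg0
    have hn : ((n : K) : G) ∈ M := Subgroup.mem_subgroupOf.1 n.2
    rw [downFun_apply, downFun_apply]
    have e1 : (θ : M → ℂ) ⟨m * ((n : K) : G) * m⁻¹, hMn.conj_mem _ hn m⟩
        = (θ : M → ℂ) ⟨((n : K) : G), hn⟩ := by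
      have := irr_cf θ.2 ⟨((n : K) : G), hn⟩ ⟨m, hm⟩
      exact this
    rw [← e1]
    apply hinv x hx
    simp only [Subgroup.coe_mul, Subgroup.coe_inv, ← hg]
    group
  obtain ⟨η, hη, hηM⟩ := exists_extension_of_coprime (M.subgroupOf K) hcop hθ' hinv'
  have hres : resFun hMK η = (θ : M → ℂ) := by
    funext m
    exact hηM ⟨⟨(m : G), hMK m.2⟩, Subgroup.mem_subgroupOf.2 m.2⟩
  -- the induced character
  have hα : IsCharacter G (indFun K η) := char_indFun _ (irr_char hη)
  have hη1 : η 1 = (charDegree (θ : M → ℂ) : ℂ) := by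
    rw [← Helper80.char_one_eq_charDegree (irr_char θ.2), ← hres]
    rfl
  have hdeg : charDegree (indFun K η) = K.index * charDegree (θ : M → ℂ) := by
    have h2 := Helper80.char_one_eq_charDegree hα
    rw [indFun_one, hη1] at h2
    exact_mod_cast h2.symm
  have hoddα : Odd (charDegree (indFun K η)) := by
    rw [hdeg, Nat.odd_mul]
    constructor
    · have h1 : K.index ∣ (P : Subgroup G).index := Subgroup.index_dvd_of_le hPK
      have h2 : Odd (P : Subgroup G).index := by
        rw [← Nat.not_even_iff_odd, even_iff_two_dvd]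
        exact P.not_dvd_index
      exact Odd.of_dvd_nat h2 h1
    · exact Odd.of_dvd_nat hodd (Helper78.irr_charDegree_dvd_card θ)
  obtain ⟨χ, hχ, hχodd, hne⟩ := exists_odd_constituent hα hoddα
  rw [classInner_indFun_left _ _ _ (irr_cf hχ)] at hne
  rw [inner_comm_of_char (irr_char hη) (char_restrict (irr_char hχ) _)] at hne
  have hker := real_ker M hodd hχ hχodd (h ⟨χ, hχ⟩ hχodd)
  have h3 := inner_ne_zero_of_constituent (resFunLin hMK) (fun γ hγ => char_resFun hMK hγ)
    (char_restrict (irr_char hχ) K) hη hne (irr_char θ.2)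
    (by rw [resFunLin_apply, hres, irr_inner_self θ.2]; exact one_ne_zero)
  rw [resFunLin_apply] at h3
  have h4 : resFun hMK (fun k : K => χ k) = χ 1 • (fun _ : M => (1 : ℂ)) := by
    funext m
    simp only [resFun_apply, Pi.smul_apply, smul_eq_mul, mul_one]
    exact hker m m.2
  rw [h4, classInner_smul_left] at h3
  exact (irr_eq_of_inner_ne_zero irr_one θ.2 (right_ne_zero_of_mul h3)).symm

end Cfsg.Agent.Lib.Helper50.RO
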