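import Cfsg.Agent.Lib.Helper50.RO.Base
import Cfsg.Agent.Lib.Helper15.Glauberman4
import Cfsg.Agent.Lib.Helper3.Table

set_option autoImplicit false

namespace Cfsg.Agent.Lib.Helper50.RO

open Cfsg Cfsg.Agent.Lib Cfsg.Agent.Lib.Helper15
open scoped ComplexConjugate

/-- [S3] Glauberman count: if the principal character is the only `P`-invariant irreducible
character of `M` then `C_M(P) = 1`. -/
theorem cent_trivial {G : Type*} [Group G] [Finite G] (M : Subgroup G) [hM : M.Normal]
    (hodd : Odd (Nat.card M)) (P : Sylow 2 G)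
    (h : ∀ θ : IrrCharacter M, InvUnder M (P : Subgroup G) (θ : M → ℂ) →
      (θ : M → ℂ) = fun _ => 1) :
    M ⊓ Subgroup.centralizer ((P : Subgroup G) : Set G) = ⊥ := by
  classical
  have : Fact (Nat.Prime 2) := ⟨Nat.prime_two⟩
  have : Fintype G := Fintype.ofFinite G
  have hnil : Group.IsNilpotent (P : Subgroup G) := P.2.isNilpotent
  have hsolv : Group.IsSolvable (P : Subgroup G) := inferInstance
  have hcop : (Nat.card M).Coprime (Nat.card (P : Subgroup G)) := by
    obtain ⟨k, hk⟩ := IsPGroup.iff_card.mp P.2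
    rw [hk]
    exact (Nat.coprime_two_right.mpr hodd).pow_right k
  have hcount := card_inv_eq (P : Subgroup G) hsolv (Nat.card M) M rfl
    (fun s _ g hg => hM.conj_mem g hg s) hcop
  have hsub : Subsingleton {χ : IrrCharacter M // InvUnder M (P : Subgroup G) (χ : M → ℂ)} := by
    constructor
    rintro ⟨a, ha⟩ ⟨b, hb⟩
    apply Subtype.ext
    apply Subtype.ext
    rw [h a ha, h b hb]
  have hle : Nat.card {χ : IrrCharacter M // InvUnder M (P : Subgroup G) (χ : M → ℂ)} ≤ 1 :=
    Finite.card_le_one_iff_subsingleton.mpr hsub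
  rw [hcount, Cfsg.Agent.Lib.Helper3.card_irrCharacter] at hle
  have hss : Subsingleton
      (ConjClasses ↥(M ⊓ Subgroup.centralizer ((P : Subgroup G) : Set G))) :=
    Finite.card_le_one_iff_subsingleton.mp hle
  rw [eq_bot_iff]
  intro x hx
  have h1 : ConjClasses.mk (⟨x, hx⟩ : ↥(M ⊓ Subgroup.centralizer ((P : Subgroup G) : Set G))) =
      ConjClasses.mk 1 := Subsingleton.elim _ _
  rw [ConjClasses.mk_eq_mk_iff_isConj, isConj_comm, isConj_one_right] at h1
  rw [Subgroup.mem_bot]
  exact congrArg Subtype.val h1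

end Cfsg.Agent.Lib.Helper50.RO
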