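import Cfsg.Agent.Lib.Helper50.RO.Base

set_option autoImplicit false

namespace Cfsg.Agent.Lib.Helper50.RO

open Cfsg Cfsg.Agent.Lib Cfsg.Agent.Lib.Helper15
open scoped ComplexConjugate

/-- [S4] lifting self-normalization from `G ⧸ M`. -/
theorem normalizer_le_sup {G : Type*} [Group G] [Finite G] (M : Subgroup G) [M.Normal]
    (P : Sylow 2 G)
    (h : ∀ P' : Sylow 2 (G ⧸ M), Subgroup.normalizer ((P' : Subgroup (G ⧸ M)) : Set (G ⧸ M)) = P') :
    Subgroup.normalizer ((P : Subgroup G) : Set G) ≤ (P : Subgroup G) ⊔ M := by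
  have : Fact (Nat.Prime 2) := ⟨Nat.prime_two⟩
  intro x hx
  set Q := P.mapSurjective (QuotientGroup.mk'_surjective M) with hQdef
  have hQ : (Q : Subgroup (G ⧸ M)) = (P : Subgroup G).map (QuotientGroup.mk' M) :=
    Sylow.coe_mapSurjective _ _
  have h1 : QuotientGroup.mk' M x ∈
      Subgroup.normalizer ((Q : Subgroup (G ⧸ M)) : Set (G ⧸ M)) := by
    rw [Subgroup.mem_normalizer_iff]
    intro w
    rw [hQ]
    constructor
    · rintro ⟨p, hp, rfl⟩
      refine ⟨x * p * x⁻¹, (Subgroup.mem_normalizer_iff.mp hx p).mp hp, ?_⟩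
      simp
    · rintro ⟨p, hp, hpw⟩
      refine ⟨x⁻¹ * p * x, ?_, ?_⟩
      · have := (Subgroup.mem_normalizer_iff.mp (Subgroup.inv_mem _ hx) p).mp hp
        rw [inv_inv] at this
        exact this
      · rw [map_mul, map_mul, hpw, map_inv]
        group
  rw [h Q, hQ] at h1
  obtain ⟨p, hp, hpx⟩ := h1
  have h3 : p⁻¹ * x ∈ M := QuotientGroup.eq.mp hpx
  have h4 : x = p * (p⁻¹ * x) := by group
  rw [h4]
  exact Subgroup.mul_mem_sup hp h3

end Cfsg.Agent.Lib.Helper50.RO
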