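import Cfsg.Agent.Lib.Helper50.RO.Base

set_option autoImplicit false

namespace Cfsg.Agent.Lib.Helper50.RO

open Cfsg Cfsg.Agent.Lib Cfsg.Agent.Lib.Helper15
open scoped ComplexConjugate

/-- [S5] `N_{PM}(P) = P` when `M` has odd order and `C_M(P) = 1`. -/
theorem normalizer_eq_of_odd {G : Type*} [Group G] [Finite G] (M : Subgroup G) [hM : M.Normal]
    (hodd : Odd (Nat.card M)) (P : Sylow 2 G)
    (hC : M ⊓ Subgroup.centralizer ((P : Subgroup G) : Set G) = ⊥)
    (h : Subgroup.normalizer ((P : Subgroup G) : Set G) ≤ (P : Subgroup G) ⊔ M) :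
    Subgroup.normalizer ((P : Subgroup G) : Set G) = P := by
  have : Fact (Nat.Prime 2) := ⟨Nat.prime_two⟩
  have hMP : M ⊓ (P : Subgroup G) = ⊥ := by
    apply disjoint_iff.mp
    apply Subgroup.disjoint_of_coprime_natCard
    obtain ⟨k, hk⟩ := IsPGroup.iff_card.mp P.2
    rw [hk]
    exact (Nat.coprime_two_right.mpr hodd).pow_right k
  apply le_antisymm _ Subgroup.le_normalizer
  intro n hn
  have hn' : n ∈ (((P : Subgroup G) ⊔ M : Subgroup G) : Set G) := h hn
  rw [Subgroup.mul_normal] at hn'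
  obtain ⟨x, hx, m, hm, rfl⟩ := hn'
  have hx' : x ∈ (P : Subgroup G) := hx
  have hm' : m ∈ M := hm
  have hmN : m ∈ Subgroup.normalizer ((P : Subgroup G) : Set G) := by
    have := Subgroup.mul_mem _ (Subgroup.inv_mem _ (Subgroup.le_normalizer hx')) hn
    simpa using this
  have hmC : m ∈ M ⊓ Subgroup.centralizer ((P : Subgroup G) : Set G) := by
    refine Subgroup.mem_inf.mpr ⟨hm', ?_⟩
    rw [Subgroup.mem_centralizer_iff]
    intro y hy
    have hy' : y ∈ (P : Subgroup G) := hy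
    have h2 : m * y * m⁻¹ * y⁻¹ ∈ M ⊓ (P : Subgroup G) := by
      refine Subgroup.mem_inf.mpr ⟨?_, ?_⟩
      · have h3 : y * m⁻¹ * y⁻¹ ∈ M := hM.conj_mem _ (M.inv_mem hm') y
        have h4 := M.mul_mem hm' h3
        simpa [mul_assoc] using h4
      · exact Subgroup.mul_mem _ ((Subgroup.mem_normalizer_iff.mp hmN y).mp hy')
          (Subgroup.inv_mem _ hy')
    rw [hMP, Subgroup.mem_bot] at h2
    have h3 := congrArg (fun z => z * y * m) h2
    simpa [mul_assoc] using h3.symm
  rw [hC, Subgroup.mem_bot] at hmC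
  show x * m ∈ (P : Subgroup G)
  rw [hmC, mul_one]
  exact hx'

end Cfsg.Agent.Lib.Helper50.RO
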