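import Cfsg.Agent.Lib.Helper50.RO.Base
import Cfsg.Agent.Lib.Helper69.SubgroupSylow

set_option autoImplicit false

namespace Cfsg.Agent.Lib.Helper50.RO

open Cfsg Cfsg.Agent.Lib Cfsg.Agent.Lib.Helper15
open scoped ComplexConjugate

/-- Frattini: the normalizer of the image of a Sylow subgroup is the image of the normalizer -/
theorem SQ_exists_lift {X : Type*} [Group X] [Finite X] (L : Subgroup X) [L.Normal]
    (P : Sylow 2 X) (y : X ⧸ L)
    (hy : y ∈ Subgroup.normalizer
      (((P : Subgroup X).map (QuotientGroup.mk' L) : Subgroup (X ⧸ L)) : Set (X ⧸ L))) :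
    ∃ n ∈ Subgroup.normalizer ((P : Subgroup X) : Set X), QuotientGroup.mk' L n = y := by
  have : Fact (Nat.Prime 2) := ⟨Nat.prime_two⟩
  obtain ⟨x, rfl⟩ := QuotientGroup.mk'_surjective L y
  have hle : ((x • P : Sylow 2 X) : Subgroup X) ≤ (P : Subgroup X) ⊔ L := by
    intro z hz
    have hz' : x⁻¹ * z * x ∈ P := (Cfsg.Agent.Lib.Helper69.mem_smul_sylow P x z).mp hz
    have h1 : QuotientGroup.mk' L x * QuotientGroup.mk' L (x⁻¹ * z * x) *
        (QuotientGroup.mk' L x)⁻¹ ∈ (P : Subgroup X).map (QuotientGroup.mk' L) := by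
      refine (Subgroup.mem_normalizer_iff.mp hy _).mp ?_
      exact ⟨_, hz', rfl⟩
    have h2 : QuotientGroup.mk' L x * QuotientGroup.mk' L (x⁻¹ * z * x) *
        (QuotientGroup.mk' L x)⁻¹ = QuotientGroup.mk' L z := by
      rw [← map_inv, ← map_mul, ← map_mul]
      congr 1
      group
    rw [h2] at h1
    obtain ⟨p', hp', hpz⟩ := h1
    have h3 : p'⁻¹ * z ∈ L := QuotientGroup.eq.mp hpz
    have h4 : z = p' * (p'⁻¹ * z) := by group
    rw [h4]
    exact Subgroup.mul_mem_sup hp' h3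
  obtain ⟨c, hc, hcP⟩ := Cfsg.Agent.Lib.Helper69.exists_smul_eq_of_le
    ((P : Subgroup X) ⊔ L) P (x • P) le_sup_left hle
  rw [← mul_smul] at hcP
  have hcx : c * x ∈ Subgroup.normalizer ((P : Subgroup X) : Set X) :=
    Sylow.smul_eq_iff_mem_normalizer.mp hcP
  have hc' : c ∈ (((P : Subgroup X) ⊔ L : Subgroup X) : Set X) := hc
  rw [Subgroup.mul_normal] at hc'
  obtain ⟨p, hp, l, hl, rfl⟩ := hc'
  have hpN : p ∈ Subgroup.normalizer ((P : Subgroup X) : Set X) := Subgroup.le_normalizer hp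
  have hlx : l * x ∈ Subgroup.normalizer ((P : Subgroup X) : Set X) := by
    have := Subgroup.mul_mem _ (Subgroup.inv_mem _ hpN) hcx
    simpa [mul_assoc] using this
  refine ⟨l * x, hlx, ?_⟩
  have hl1 : QuotientGroup.mk' L l = 1 := (QuotientGroup.eq_one_iff l).mpr hl
  rw [map_mul, hl1, one_mul]

/-- [SQ] self-normalizing Sylow passes to quotients (Frattini argument). -/
theorem SN_quot {Q G : Type*} [Group Q] [Group G] [Finite G] (M : Subgroup G) [M.Normal]
    (ι : Q →* G) (h : SN ι) : SN ((QuotientGroup.mk' M).comp ι) := by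
  have : Fact (Nat.Prime 2) := ⟨Nat.prime_two⟩
  obtain ⟨⟨P, hP⟩, hN⟩ := h
  have hr : ((QuotientGroup.mk' M).comp ι).range = (P : Subgroup G).map (QuotientGroup.mk' M) := by
    rw [MonoidHom.range_comp, hP]
  refine ⟨⟨P.mapSurjective (QuotientGroup.mk'_surjective M), ?_⟩, ?_⟩
  · rw [hr]
    exact Sylow.coe_mapSurjective _ _
  · rw [hr]
    apply le_antisymm _ Subgroup.le_normalizer
    intro y hy
    obtain ⟨n, hn, rfl⟩ := SQ_exists_lift M P y hy
    rw [hP, hN, ← hP] at hn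
    exact ⟨n, hn, rfl⟩

end Cfsg.Agent.Lib.Helper50.RO
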