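import Cfsg.Agent.Lib.Helper50.RO.Base

set_option autoImplicit false

namespace Cfsg.Agent.Lib.Helper50.RO

open Cfsg Cfsg.Agent.Lib Cfsg.Agent.Lib.Helper15
open scoped ComplexConjugate

/-- [ST] self-normalizing Sylow passes to overgroups of the Sylow subgroup. -/
theorem SN_sub {Q G : Type*} [Group Q] [Group G] [Finite G] (T : Subgroup G)
    (ι : Q →* G) (hT : ∀ q, ι q ∈ T) (h : SN ι) : SN (ι.codRestrict T hT) := by
  obtain ⟨⟨P, hP⟩, hN⟩ := h
  have hle : ι.range ≤ T := by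
    rintro _ ⟨q, rfl⟩
    exact hT q
  have hr : (ι.codRestrict T hT).range = ι.range.subgroupOf T := by
    ext t
    rw [Subgroup.mem_subgroupOf]
    constructor
    · rintro ⟨q, rfl⟩
      exact ⟨q, rfl⟩
    · rintro ⟨q, hq⟩
      exact ⟨q, Subtype.ext hq⟩
  refine ⟨⟨P.subtype (hP ▸ hle), ?_⟩, ?_⟩
  · rw [hr, Sylow.coe_subtype, hP]
  · rw [hr, ← Subgroup.subgroupOf_normalizer_eq hle, hN]

end Cfsg.Agent.Lib.Helper50.RO
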