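import Cfsg.Agent.Lib.Helper50.RO.Base

set_option autoImplicit false

namespace Cfsg.Agent.Lib.Helper50.RO

open Cfsg Cfsg.Agent.Lib Cfsg.Agent.Lib.Helper15
open scoped ComplexConjugate

/-- [T2] Clifford correspondent, with odd degree. -/
theorem exists_corr {G : Type*} [Group G] [Fintype G] (M : Subgroup G) [M.Normal] [Fintype M]
    {lam : M → ℂ} (hlam : IsIrrCharacter M lam) (T : Subgroup G) [Fintype T]
    (hT : ∀ g : G, g ∈ T ↔ cj M g lam = lam) (hMT : M ≤ T) {χ : G → ℂ}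
    (hχ : IsIrrCharacter G χ) (hd : Odd (charDegree χ))
    (hov : classInner (fun m : M => χ m) lam ≠ 0) :
    ∃ ψ : T → ℂ, IsIrrCharacter T ψ ∧ Odd (charDegree ψ) ∧
      classInner (resFun hMT ψ) lam ≠ 0 ∧ indFun T ψ = χ := by
  obtain ⟨ψ, hψ, hψov, hind⟩ := (clifford_correspondence M hlam T hT hMT).2.2.2 χ hχ hov
  refine ⟨ψ, hψ, ?_, hψov, hind⟩
  have h1 : χ 1 = (T.index : ℂ) * ψ 1 := by
    rw [← hind, indFun_one]
  rw [Helper80.char_one_eq_charDegree (irr_char hχ),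
    Helper80.char_one_eq_charDegree (irr_char hψ)] at h1
  have h2 : charDegree χ = T.index * charDegree ψ := by
    exact_mod_cast h1
  rw [h2] at hd
  exact (Nat.odd_mul.1 hd).2

end Cfsg.Agent.Lib.Helper50.RO
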