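import Cfsg.Agent.Lib.Helper50.RO.Base
import Cfsg.Agent.Lib.Helper50.RO.B1c

set_option autoImplicit false

namespace Cfsg.Agent.Lib.Helper50.RO

open Cfsg Cfsg.Agent.Lib Cfsg.Agent.Lib.Helper15
open scoped ComplexConjugate

/-- [T3] a linear constituent of `(ind ψ) ∘ ι` lying over `lam` is a constituent of `ψ ∘ ι`. -/
theorem LC_corr {Q G : Type*} [Group Q] [Fintype Q] [Group G] [Fintype G] (M : Subgroup G)
    [M.Normal] [Fintype M] {lam : M → ℂ} (hlam : IsIrrCharacter M lam) (T : Subgroup G)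
    [Fintype T] (hT : ∀ g : G, g ∈ T ↔ cj M g lam = lam) (hMT : M ≤ T)
    (ι : Q →* G) (hιT : ∀ q, ι q ∈ T) (hMr : M ≤ ι.range) {ψ : T → ℂ}
    (hψ : IsIrrCharacter T ψ) (hov : classInner (resFun hMT ψ) lam ≠ 0) {μ : Q → ℂ}
    (hμ : LC ι (indFun T ψ) μ) (hu : Und ι M μ lam) : LC (ι.codRestrict T hιT) ψ μ := by
  classical
  obtain ⟨hμc, hμ1, hne⟩ := hμ
  refine ⟨hμc, hμ1, ?_⟩
  intro h0
  obtain ⟨hc1, -, hc3, -⟩ := clifford_correspondence M hlam T hT hMT
  have hχ : IsIrrCharacter G (indFun T ψ) := hc1 ψ hψ hov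
  have hχT : IsCharacter T (fun t : T => indFun T ψ t) := char_restrict (irr_char hχ) T
  have h1 : classInner (fun t : T => indFun T ψ t) ψ ≠ 0 := by
    rw [← classInner_indFun_right T ψ _ (irr_cf hχ), irr_inner_self hχ]
    exact one_ne_zero
  have hΔ : IsCharacter T ((fun t : T => indFun T ψ t) - ψ) := char_sub_irr hχT hψ h1
  have h2 : classInner (resFun hMT ((fun t : T => indFun T ψ t) - ψ)) lam = 0 := by
    have : resFun hMT ((fun t : T => indFun T ψ t) - ψ)
        = (fun m : M => indFun T ψ m) - resFun hMT ψ := by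
      funext m
      rfl
    rw [this, classInner_sub_left, hc3 ψ hψ hov, sub_self]
  have h3 : indFun T ψ ∘ ι = ψ ∘ (ι.codRestrict T hιT)
      + ((fun t : T => indFun T ψ t) - ψ) ∘ (ι.codRestrict T hιT) := by
    funext q
    simp only [Function.comp_apply, Pi.add_apply, Pi.sub_apply, MonoidHom.codRestrict_apply]
    ring
  rw [h3, classInner_add_left, h0, zero_add] at hne
  have hLC : LC (ι.codRestrict T hιT) ((fun t : T => indFun T ψ t) - ψ) μ := ⟨hμc, hμ1, hne⟩
  have := Fintype.ofFinite (M.subgroupOf T)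
  have hM' : M.subgroupOf T ≤ (ι.codRestrict T hιT).range := by
    intro t ht
    obtain ⟨q, hq⟩ := hMr (Subgroup.mem_subgroupOf.1 ht)
    exact ⟨q, Subtype.ext hq⟩
  have hu' : Und (ι.codRestrict T hιT) (M.subgroupOf T) μ (downFun M T lam) := by
    refine ⟨char_downFun hMT hu.1, ?_, ?_⟩
    · rw [downFun_apply]
      exact hu.2.1
    · intro q hq
      rw [downFun_apply]
      exact hu.2.2 q (Subgroup.mem_subgroupOf.1 hq)
  have h4 := inner_und_ne_zero (M.subgroupOf T) (ι.codRestrict T hιT) hM' hΔ hLC hu'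
  rw [← downFun_resFun hMT, classInner_downFun hMT] at h4
  exact h4 h2

end Cfsg.Agent.Lib.Helper50.RO
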