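import Cfsg.Agent.Lib.Helper50.RO.D2
import Cfsg.Agent.Lib.Helper50.RO.D
import Cfsg.Agent.Lib.Helper50.RO.SQ
import Cfsg.Agent.Lib.Helper50.RO.ST
import Cfsg.Agent.Lib.Helper50.RO.QUI
import Cfsg.Agent.Lib.Helper50.RO.AB0
import Cfsg.Agent.Lib.Helper50.RO.B1a
import Cfsg.Agent.Lib.Helper50.RO.B1bd
import Cfsg.Agent.Lib.Helper50.RO.B1c
import Cfsg.Agent.Lib.Helper50.RO.B2
import Cfsg.Agent.Lib.Helper50.RO.T2
import Cfsg.Agent.Lib.Helper50.RO.T3
import Cfsg.Agent.Lib.Helper50.RO.G1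
import Cfsg.Agent.Lib.Helper50.RO.G2
import Cfsg.Agent.Lib.Helper50.RO.G34
import Cfsg.Agent.Lib.Helper50.RO.E1
import Cfsg.Agent.Lib.Helper50.RO.E2
import Cfsg.Agent.Lib.Helper50.RO.E3F4
import Cfsg.Agent.Lib.Helper50.RO.H1
import Cfsg.Agent.Lib.Helper50.RO.S1
import Cfsg.Agent.Lib.Helper50.RO.F1
import Cfsg.Agent.Lib.Helper50.RO.S2
import Cfsg.Agent.Lib.Helper50.RO.S3
import Cfsg.Agent.Lib.Helper50.RO.S4
import Cfsg.Agent.Lib.Helper50.RO.S5
import Cfsg.Agent.Lib.Helper50.RO.F2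
import Cfsg.Agent.Lib.Helper50.RO.F3
import Cfsg.Agent.Lib.Helper50.RO.M0Z

set_option autoImplicit false

namespace Cfsg.Agent.Lib.Helper50.RO

open Cfsg Cfsg.Agent.Lib Cfsg.Agent.Lib.Helper15
open scoped ComplexConjugate

universe u v

theorem caseA {Q G : Type*} [Group Q] [Fintype Q] [Group G] [Finite G] (M : Subgroup G)
    [M.Normal] (hodd : Odd (Nat.card M)) (ι : Q →* G) (hSN : SN ι)
    (h : NU ((QuotientGroup.mk' M).comp ι) ∧ NI ((QuotientGroup.mk' M).comp ι)) :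
    NU ι ∧ NI ι := by
  refine ⟨fun χ hχ hd μ₁ μ₂ h₁ h₂ =>
      quot_U M ι h.1 hχ hd (caseA_ker M hodd ι hSN hχ hd) h₁ h₂,
    fun χ₁ χ₂ h1 h2 d1 d2 μ m1 m2 =>
      quot_I M ι h.2 h1 h2 d1 d2 (caseA_ker M hodd ι hSN h1 d1) (caseA_ker M hodd ι hSN h2 d2)
        m1 m2⟩

theorem caseB_core {Q G : Type*} [Group Q] [Fintype Q] [Group G] [Finite G] (M : Subgroup G)
    [M.Normal] (hM2 : IsPGroup 2 M) (ι : Q →* G) (hSN : SN ι)
    (hQ : NU ((QuotientGroup.mk' M).comp ι) ∧ NI ((QuotientGroup.mk' M).comp ι))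
    (hT : ∀ (T : Subgroup G) (hιT : ∀ q, ι q ∈ T), T ≠ ⊤ →
      NU (ι.codRestrict T hιT) ∧ NI (ι.codRestrict T hιT))
    {χ₁ χ₂ : G → ℂ} (h1 : IsIrrCharacter G χ₁) (h2 : IsIrrCharacter G χ₂)
    (d1 : Odd (charDegree χ₁)) (d2 : Odd (charDegree χ₂)) {μ₁ μ₂ : Q → ℂ}
    (m1 : LC ι χ₁ μ₁) (m2 : LC ι χ₂ μ₂) {lam : M → ℂ} (u1 : Und ι M μ₁ lam)
    (u2 : Und ι M μ₂ lam) : (χ₁ = χ₂ → μ₁ = μ₂) ∧ (μ₁ = μ₂ → χ₁ = χ₂) := by
  classical
  haveI := Fintype.ofFinite G
  have hMr : M ≤ ι.range := le_range_of_SN M hM2 ι hSN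
  have hlam : IsIrrCharacter M lam := irr_of_linear u1.1 u1.2.1
  have o1 : classInner (fun m : M => χ₁ m) lam ≠ 0 :=
    inner_und_ne_zero M ι hMr (irr_char h1) m1 u1
  have o2 : classInner (fun m : M => χ₂ m) lam ≠ 0 :=
    inner_und_ne_zero M ι hMr (irr_char h2) m2 u2
  have hinvQ : ∀ q : Q, cj M (ι q) lam = lam := und_inv M ι hMr m1.1 u1
  by_cases hTop : inertia M lam = ⊤
  · -- invariant case
    have hinv : ∀ g : G, cj M g lam = lam := fun g =>
      (mem_inertia M lam g).1 (hTop ▸ Subgroup.mem_top g)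
    obtain ⟨ν₀, hν₀, hν₀1, -, hν₀u⟩ := exists_und ι (irr_char h1) m1
    have hl : lam = resFun hMr ν₀ := und_unique M ι hMr u1 (hν₀u M hMr)
    obtain ⟨ν, hν, hν1, hνM⟩ := exists_ext M ι hSN hM2 hMr hν₀ hν₀1 (hl ▸ hinv)
    have hνM' : ∀ m : M, ν m = lam m := fun m => by rw [hνM m, hl]
    obtain ⟨b1, e1, k1⟩ := twist_irr M h1 hν hν1 hνM' o1
    obtain ⟨b2, e2, k2⟩ := twist_irr M h2 hν hν1 hνM' o2
    have l1 := twist_LC ι hν hν1 m1
    have l2 := twist_LC ι hν hν1 m2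
    have hνQ : IsCharacter Q (ν ∘ ι) := Helper3.IsCharacter.comp_hom hν ι
    have hνQ1 : (ν ∘ ι) 1 = 1 := by simp [hν1]
    constructor
    · rintro rfl
      exact twist_cancel hνQ hνQ1 (quot_U M ι hQ.1 b1 (e1 ▸ d1) k1 l1 l2)
    · rintro rfl
      exact twist_cancel hν hν1 (quot_I M ι hQ.2 b1 b2 (e1 ▸ d1) (e2 ▸ d2) k1 k2 l1 l2)
  · -- proper inertia group
    set T := inertia M lam with hTdef
    have hTmem : ∀ g : G, g ∈ T ↔ cj M g lam = lam := fun g => mem_inertia M lam g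
    have hMT : M ≤ T := le_inertia M (irr_cf hlam)
    have hιT : ∀ q, ι q ∈ T := fun q => (hTmem _).2 (hinvQ q)
    obtain ⟨hU, hI⟩ := hT T hιT hTop
    obtain ⟨ψ₁, p1, q1, r1, s1⟩ := exists_corr M hlam T hTmem hMT h1 d1 o1
    obtain ⟨ψ₂, p2, q2, r2, s2⟩ := exists_corr M hlam T hTmem hMT h2 d2 o2
    have c1 : LC (ι.codRestrict T hιT) ψ₁ μ₁ :=
      LC_corr M hlam T hTmem hMT ι hιT hMr p1 r1 (s1 ▸ m1) u1
    constructor
    · intro he
      have c2 : LC (ι.codRestrict T hιT) ψ₁ μ₂ :=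
        LC_corr M hlam T hTmem hMT ι hιT hMr p1 r1 (by rw [s1, he]; exact m2) u2
      exact hU ψ₁ p1 q1 μ₁ μ₂ c1 c2
    · intro he
      have c2 : LC (ι.codRestrict T hιT) ψ₂ μ₁ :=
        LC_corr M hlam T hTmem hMT ι hιT hMr p2 r2 (by rw [s2, he]; exact m2) (he ▸ u2)
      rw [← s1, ← s2, hI ψ₁ ψ₂ p1 p2 q1 q2 μ₁ c1 c2]

theorem caseB {Q G : Type*} [Group Q] [Fintype Q] [Group G] [Finite G] (M : Subgroup G)
    [M.Normal] (hM2 : IsPGroup 2 M) (ι : Q →* G) (hSN : SN ι)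
    (hQ : NU ((QuotientGroup.mk' M).comp ι) ∧ NI ((QuotientGroup.mk' M).comp ι))
    (hT : ∀ (T : Subgroup G) (hιT : ∀ q, ι q ∈ T), T ≠ ⊤ →
      NU (ι.codRestrict T hιT) ∧ NI (ι.codRestrict T hιT)) :
    NU ι ∧ NI ι := by
  classical
  haveI := Fintype.ofFinite G
  have hMr : M ≤ ι.range := le_range_of_SN M hM2 ι hSN
  constructor
  · intro χ hχ hd μ₁ μ₂ m1 m2
    obtain ⟨ν₁, -, -, -, hu1⟩ := exists_und ι (irr_char hχ) m1
    obtain ⟨ν₂, -, -, -, hu2⟩ := exists_und ι (irr_char hχ) m2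
    have u1 := hu1 M hMr
    have u2 := hu2 M hMr
    have he : resFun hMr ν₁ = resFun hMr ν₂ :=
      inv_unique M ι hSN hχ (irr_of_linear u1.1 u1.2.1) (irr_of_linear u2.1 u2.2.1)
        (inner_und_ne_zero M ι hMr (irr_char hχ) m1 u1)
        (inner_und_ne_zero M ι hMr (irr_char hχ) m2 u2)
        (und_inv M ι hMr m1.1 u1) (und_inv M ι hMr m2.1 u2)
    exact (caseB_core M hM2 ι hSN hQ hT hχ hχ hd hd m1 m2 u1 (he ▸ u2)).1 rfl
  · intro χ₁ χ₂ h1 h2 d1 d2 μ m1 m2
    obtain ⟨ν₁, -, -, -, hu1⟩ := exists_und ι (irr_char h1) m1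
    have u1 := hu1 M hMr
    exact (caseB_core M hM2 ι hSN hQ hT h1 h2 d1 d2 m1 m2 u1 u1).2 rfl

/-- **Theorem N** (Navarro, solvable case). -/
theorem thmN {Q : Type v} [Group Q] [Fintype Q] :
    ∀ (n : ℕ) (G : Type u) [Group G] [Finite G] [Group.IsSolvable G] (ι : Q →* G),
      Nat.card G ≤ n → SN ι → NU ι ∧ NI ι := by
  intro n
  induction n with
  | zero =>
    intro G _ _ _ ι hn _
    exact absurd hn (by have := Nat.card_pos (α := G); omega)
  | succ n ih =>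
    intro G _ _ _ ι hn hSN
    by_cases hnt : Nontrivial G
    · obtain ⟨M, hMn, hM, hcase⟩ := exists_normal_odd_or_two (G := G)
      haveI := hMn
      have hlt : Nat.card (G ⧸ M) < Nat.card G := by
        have h1 : Nat.card G = Nat.card (G ⧸ M) * Nat.card M := M.card_eq_card_quotient_mul_card_subgroup
        have h2 : 1 < Nat.card M := by
          rw [Finite.one_lt_card_iff_nontrivial]
          exact (Subgroup.nontrivial_iff_ne_bot M).2 hM
        have h3 : 0 < Nat.card (G ⧸ M) := Nat.card_pos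
        nlinarith
      have hQ := ih (G ⧸ M) ((QuotientGroup.mk' M).comp ι) (by omega) (SN_quot M ι hSN)
      rcases hcase with hodd | h2
      · exact caseA M hodd ι hSN hQ
      · refine caseB M h2 ι hSN hQ (fun T hιT hT => ?_)
        have hltT : Nat.card T < Nat.card G := by
          have h1 := T.card_mul_index
          have h2 : T.index ≠ 1 := fun h => hT (Subgroup.index_eq_one.1 h)
          have h3 : T.index ≠ 0 := Subgroup.index_ne_zero_of_finite
          have h4 : 0 < Nat.card T := Nat.card_pos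
          have h5 : 2 ≤ T.index := by omega
          nlinarith
        exact ih T (ι.codRestrict T hιT) (by omega) (SN_sub T ι hιT hSN)
    · haveI : Subsingleton G := not_nontrivial_iff_subsingleton.1 hnt
      exact base_case ι

theorem SN_subtype {G : Type*} [Group G] (P : Sylow 2 G)
    (h : Subgroup.normalizer ((P : Subgroup G) : Set G) = (P : Subgroup G)) :
    SN (P : Subgroup G).subtype := by
  refine ⟨⟨P, by simp⟩, ?_⟩
  rw [Subgroup.range_subtype]
  exact h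

theorem backward {G : Type*} [Group G] [Finite G] [Group.IsSolvable G] (P : Sylow 2 G)
    (hc : commutator (P : Subgroup G) = frattini (P : Subgroup G))
    (hn : Subgroup.normalizer ((P : Subgroup G) : Set G) = (P : Subgroup G)) : Hyp G := by
  classical
  haveI := Fintype.ofFinite (P : Subgroup G)
  intro χ hd g
  obtain ⟨-, hI⟩ := thmN (Q := (P : Subgroup G)) (Nat.card G) G (P : Subgroup G).subtype le_rfl
    (SN_subtype P hn)
  obtain ⟨μ, hμ⟩ := exists_LC P (irr_char χ.2) hd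
  obtain ⟨c1, c2, c3⟩ := cc_facts (P : Subgroup G).subtype χ.2
  have h1 : cc μ = μ := linear_real P.2 hc hμ.1 hμ.2.1
  have h2 : cc (χ : G → ℂ) = χ := hI _ _ c1 χ.2 (c2 ▸ hd) hd μ (h1 ▸ c3 μ hμ) hμ
  exact Complex.conj_eq_iff_im.1 (congrFun h2 g)

theorem selfnorm : ∀ (n : ℕ) (G : Type u) [Group G] [Finite G] [Group.IsSolvable G],
    Nat.card G ≤ n → Hyp G → ∀ P : Sylow 2 G,
      Subgroup.normalizer ((P : Subgroup G) : Set G) = (P : Subgroup G) := by
  intro n
  induction n with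
  | zero =>
    intro G _ _ _ hn _
    exact absurd hn (by have := Nat.card_pos (α := G); omega)
  | succ n ih =>
    intro G _ _ _ hn hyp P
    by_cases hnt : Nontrivial G
    · obtain ⟨M, hMn, hM, hcase⟩ := exists_normal_odd_or_two (G := G)
      haveI := hMn
      have hlt : Nat.card (G ⧸ M) < Nat.card G := by
        have h1 : Nat.card G = Nat.card (G ⧸ M) * Nat.card M := M.card_eq_card_quotient_mul_card_subgroup
        have h2 : 1 < Nat.card M := by
          rw [Finite.one_lt_card_iff_nontrivial]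
          exact (Subgroup.nontrivial_iff_ne_bot M).2 hM
        have h3 : 0 < Nat.card (G ⧸ M) := Nat.card_pos
        nlinarith
      have hQ := ih (G ⧸ M) (by omega) (hyp.quot M)
      have hle := normalizer_le_sup M P hQ
      rcases hcase with hodd | h2
      · exact normalizer_eq_of_odd M hodd P
          (cent_trivial M hodd P (fun θ hθ => inv_trivial hyp M hodd P θ hθ)) hle
      · have hMP : M ≤ P := normal_pSubgroup_le_sylow 2 M hMn h2 P
        rw [sup_eq_left.2 hMP] at hle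
        exact le_antisymm hle Subgroup.le_normalizer
    · haveI : Subsingleton G := not_nontrivial_iff_subsingleton.1 hnt
      exact Subsingleton.elim _ _

theorem forward {G : Type*} [Group G] [Finite G] [Group.IsSolvable G] (P : Sylow 2 G)
    (hyp : Hyp G) : commutator (P : Subgroup G) = frattini (P : Subgroup G) ∧
      Subgroup.normalizer ((P : Subgroup G) : Set G) = (P : Subgroup G) := by
  classical
  haveI := Fintype.ofFinite (P : Subgroup G)
  have hn := selfnorm (Nat.card G) G le_rfl hyp P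
  refine ⟨?_, hn⟩
  obtain ⟨hU, -⟩ := thmN (Q := (P : Subgroup G)) (Nat.card G) G (P : Subgroup G).subtype le_rfl
    (SN_subtype P hn)
  apply commutator_eq_frattini P.2
  apply sq_mem_commutator
  intro μ hμ h1
  obtain ⟨χ, hχ, hd, hl⟩ := exists_odd_over P hμ h1
  obtain ⟨c1, c2, c3⟩ := cc_facts (P : Subgroup G).subtype hχ
  have hreal : cc χ = χ := by
    funext g
    exact Complex.conj_eq_iff_im.2 (hyp ⟨χ, hχ⟩ hd g)
  exact hU χ hχ hd _ _ (hreal ▸ c3 μ hl) hl

/-- **S4581, part (2).** -/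
theorem part2 {G : Type*} [Group G] [Finite G] [Group.IsSolvable G] (P : Sylow 2 G) :
    (∀ χ : IrrCharacter G, Odd (charDegree (χ : G → ℂ)) → ∀ g : G, ((χ : G → ℂ) g).im = 0) ↔
      (commutator (P : Subgroup G) = frattini (P : Subgroup G) ∧
        Subgroup.normalizer ((P : Subgroup G) : Set G) = (P : Subgroup G)) :=
  ⟨fun h => forward P h, fun h => backward P h.1 h.2⟩

end Cfsg.Agent.Lib.Helper50.RO
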